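import Groth.Agent.KoszLib.Top
import Groth.Agent.KoszLib.Depth
import Groth.Agent.GrModLib.StdField
import Groth.Agent.S5776
import Groth.Agent.S2423

/-! # The limit of the Koszul cohomology of the variables of a polynomial ring -/

set_option autoImplicit false

universe u

open CategoryTheory CategoryTheory.Limits CochainComplex

namespace KoszVarLib

open KoszLib

section Trans
variable {A : Type u} [CommRing A] (M : ModuleCat.{u} A) (n m : ℕ) (hnm : n ≤ m)

theorem topX_trans : ∀ (fs : List A) (i : ℤ) (h : i = 0) (z : (K M n fs).X i),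
    topX M m fs i h (((CohIII.koszulTrans M n m hnm fs).f i).hom z) =
      (fs.map (· ^ (m - n))).prod • topX M n fs i h z
  | [], i, h, z => by
    refine Eq.trans ?_ (one_smul A _).symm
    rfl
  | g :: fs, i, h, z => by
    have hz : z = inrL M n g fs i (sndL M n g fs i z) := by
      conv_lhs => rw [← cone_eq i z, eq_zero_of_pos M n (by omega) (fstL M n g fs i z), map_zero, zero_add]
    rw [hz]
    show topX M m fs i h (sndL M m g fs i _) = _ • topX M n fs i h (sndL M n g fs i _)
    rw [trans_inr, snd_inr, snd_inr, map_smul, topX_trans fs i h, smul_smul, List.map_cons, List.prod_cons]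

/-- Compatible surjections onto the top Koszul cohomology of the powers. -/
theorem exists_top (fs : List A) (i : ℤ) (h : i = 0) :
    ∃ φ : ∀ k : ℕ, (M : Type u) →ₗ[A] ((K M k fs).homology i : Type u),
      (∀ k, Function.Surjective (φ k)) ∧
      (∀ k x, φ k x = 0 ↔ x ∈ Ideal.ofList (fs.map (· ^ k)) • (⊤ : Submodule A M)) ∧
      ∀ k l (hkl : k ≤ l) x, (HomologicalComplex.homologyMap (CohIII.koszulTrans M k l hkl fs) i).hom (φ k x) =
        φ l ((fs.map (· ^ (l - k))).prod • x) := by
  obtain ⟨j, rfl⟩ : ∃ j, i = j + 1 := ⟨i - 1, (sub_add_cancel i 1).symm⟩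
  let lift : ∀ k, (K M k fs).X (j + 1) ⟶ (K M k fs).cycles (j + 1) := fun k =>
    (K M k fs).liftCycles (𝟙 _) (j + 1 + 1) (by simp) ((isZero_X_pos M k fs _ (by omega)).eq_of_tgt _ _)
  have hlift : ∀ k, lift k ≫ (K M k fs).iCycles (j + 1) = 𝟙 _ := fun k => (K M k fs).liftCycles_i _ _ _ _
  let e : ∀ k, ((K M k fs).X (j + 1) : Type u) ≃ₗ[A] (M : Type u) := fun k =>
    LinearEquiv.ofBijective _ (topX_bijective M k fs (j + 1) h)
  refine ⟨fun k => (((K M k fs).homologyπ (j + 1)).hom.comp (lift k).hom).comp (e k).symm.toLinearMap,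
    fun k y => ?_, fun k x => ?_, fun k l hkl x => ?_⟩
  · obtain ⟨z, rfl⟩ := (ModuleCat.epi_iff_surjective ((K M k fs).homologyπ (j + 1))).mp inferInstance y
    refine ⟨e k (((K M k fs).iCycles (j + 1)).hom z), ?_⟩
    refine congr_arg ((K M k fs).homologyπ (j + 1)).hom (iCycles_injective M k fs _ ?_)
    refine (ConcreteCategory.congr_hom (hlift k) _).trans ?_
    exact (e k).symm_apply_apply _
  · obtain ⟨v, rfl⟩ := (topX_bijective M k fs (j + 1) h).2 x
    have hv : (e k).symm (topX M k fs (j + 1) h v) = v := (e k).symm_apply_apply v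
    rw [mem_smul_top_iff M k fs j h]
    show ((K M k fs).homologyπ (j + 1)).hom ((lift k).hom ((e k).symm (topX M k fs (j + 1) h v))) = 0 ↔ _
    rw [hv, homologyπ_eq_zero_iff M k fs j (j + 1) (by simp)]
    refine exists_congr fun x => ?_
    rw [(topX_bijective M k fs (j + 1) h).1.eq_iff, ← (iCycles_injective M k fs (j + 1)).eq_iff]
    exact Eq.congr (ConcreteCategory.congr_hom ((K M k fs).toCycles_i j (j + 1)) x)
      (ConcreteCategory.congr_hom (hlift k) v)
  · show (HomologicalComplex.homologyMap (CohIII.koszulTrans M k l hkl fs) (j + 1)).hom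
        (((K M k fs).homologyπ (j + 1)).hom ((lift k).hom ((e k).symm x))) =
      ((K M l fs).homologyπ (j + 1)).hom ((lift l).hom ((e l).symm ((fs.map (· ^ (l - k))).prod • x)))
    refine (ConcreteCategory.congr_hom (HomologicalComplex.homologyπ_naturality
      (CohIII.koszulTrans M k l hkl fs) (j + 1)) _).trans ?_
    refine congr_arg ((K M l fs).homologyπ (j + 1)).hom (iCycles_injective M l fs _ ?_)
    refine (ConcreteCategory.congr_hom (HomologicalComplex.cyclesMap_i
      (CohIII.koszulTrans M k l hkl fs) (j + 1)) _).trans ?_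
    refine ((congr_arg ((CohIII.koszulTrans M k l hkl fs).f (j + 1)).hom
      (ConcreteCategory.congr_hom (hlift k) _)).trans ?_).trans (ConcreteCategory.congr_hom (hlift l) _).symm
    show ((CohIII.koszulTrans M k l hkl fs).f (j + 1)).hom ((e k).symm x) =
      (e l).symm ((fs.map (· ^ (l - k))).prod • x)
    rw [LinearEquiv.eq_symm_apply]
    refine (topX_trans M k l hkl fs (j + 1) h _).trans ?_
    exact congr_arg _ ((e k).apply_symm_apply x)

end Trans

section Vars
open MvPolynomial
variable (A : Type u) [CommRing A] (r : ℕ)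

local notation "S" => MvPolynomial (Fin (r + 1)) A
local notation "vars" => List.ofFn (fun j : Fin (r + 1) => (MvPolynomial.X j : MvPolynomial (Fin (r + 1)) A))

theorem isWeaklyRegular_vars_pow (n : ℕ) (hn : 1 ≤ n) :
    RingTheory.Sequence.IsWeaklyRegular S ((vars).map (· ^ n)) := by
  rw [List.map_ofFn]
  exact Groth.Agent.S5776.result S S (r + 1) (fun j => X j) (fun _ => n) (fun _ => hn)
    (GrModLib.isWeaklyRegular_X A (r + 1))

theorem subsingleton_lim_vars (i : ℕ) (hi : i ≠ r + 1) :
    Subsingleton (CohIII.koszulHLim vars (ModuleCat.of S S) i) := by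
  refine subsingleton_of_forall_eq 0 fun z => ?_
  obtain ⟨n, y, rfl⟩ := Module.DirectLimit.exists_of z
  rw [← Module.DirectLimit.of_f (hij := Nat.le_succ n)]
  have hz : IsZero (CohIII.koszulH ((vars).map (· ^ (n + 1))) (ModuleCat.of S S) i) :=
    Groth.Agent.S2423.result _ S (isWeaklyRegular_vars_pow A r (n + 1) (Nat.succ_pos n)) i (by simp [hi])
  have hz' : IsZero (CohIII.koszulHPow vars (ModuleCat.of S S) i (n + 1)) :=
    hz.of_iso (eqToIso (congrArg (fun d : ℤ => (CohIII.koszulCx (ModuleCat.of S S) ((vars).map (· ^ (n + 1)))).homology d)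
      (by rw [List.length_map])))
  haveI := ModuleCat.subsingleton_of_isZero hz'
  exact (congrArg (Module.DirectLimit.of S ℕ _ _ (n + 1)) (Subsingleton.elim _ 0)).trans (map_zero _)

theorem ofList_vars_pow (n : ℕ) :
    Ideal.ofList ((vars).map (· ^ n)) • (⊤ : Submodule S S) =
      Ideal.span (Set.range fun j : Fin (r + 1) => (X j : S) ^ n) := by
  rw [smul_eq_mul, Ideal.mul_top, List.map_ofFn]
  unfold Ideal.ofList
  congr 1
  ext x
  rw [Set.mem_setOf_eq, List.mem_ofFn]
  exact Iff.rfl

theorem coeff_eq_zero_of_mem {n : ℕ} {p : S} (hp : p ∈ Ideal.span (Set.range fun j : Fin (r + 1) => (X j : S) ^ n))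
    (s : Fin (r + 1) →₀ ℕ) (hs : ∀ j, s j < n) : p.coeff s = 0 := by
  obtain ⟨c, rfl⟩ := Ideal.mem_span_range_iff_exists_fun.1 hp
  rw [coeff_sum]
  refine Finset.sum_eq_zero fun j _ => ?_
  rw [X_pow_eq_monomial, coeff_mul_monomial', if_neg]
  intro hle
  have h1 := hle j
  rw [Finsupp.single_eq_same] at h1
  exact (lt_irrefl _) (lt_of_le_of_lt h1 (hs j))

theorem monomial_mem {n : ℕ} (s : Fin (r + 1) →₀ ℕ) (j : Fin (r + 1)) (hj : n ≤ s j) (a : A) :
    (monomial s a : S) ∈ Ideal.span (Set.range fun j : Fin (r + 1) => (X j : S) ^ n) := by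
  have h : s = (s - Finsupp.single j n) + Finsupp.single j n :=
    (tsub_add_cancel_of_le (Finsupp.single_le_iff.2 hj)).symm
  rw [h, ← mul_one a, ← monomial_mul, ← X_pow_eq_monomial]
  exact Ideal.mul_mem_left _ _ (Ideal.subset_span ⟨j, rfl⟩)

theorem prod_vars_pow (k : ℕ) : ((vars).map (· ^ k)).prod = monomial (Finsupp.equivFunOnFinite.symm fun _ => k) (1 : A) := by
  rw [List.map_ofFn, List.prod_ofFn, monomial_eq, C_1, one_mul,
    Finsupp.prod_fintype _ _ (fun _ => pow_zero _)]
  exact Finset.prod_congr rfl fun j _ => by simp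

theorem free_top : Module.Free A (RestrictScalars A S
    (CohIII.koszulHLim vars (ModuleCat.of S S) (r + 1))) := by
  classical
  have hdeg : ((r + 1 : ℕ) : ℤ) - (vars).length = 0 := by simp
  obtain ⟨φ, hsurj, hker, htrans⟩ := exists_top (ModuleCat.of S S) vars _ hdeg
  haveI := directedSystem_koszulHPow (ModuleCat.of S S) vars (r + 1)
  let L := CohIII.koszulHLim vars (ModuleCat.of S S) (r + 1)
  let of' : ∀ k : ℕ, (CohIII.koszulHPow vars (ModuleCat.of S S) (r + 1) k : Type u) →ₗ[S] L := fun k =>
    Module.DirectLimit.of S ℕ (fun n : ℕ => (CohIII.koszulHPow vars (ModuleCat.of S S) (r + 1) n : Type u)) _ k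
  let o : ∀ k : ℕ, S →ₗ[S] L := fun k => (of' k).comp (φ k)
  let u : ℕ → (Fin (r + 1) →₀ ℕ) := fun k => Finsupp.equivFunOnFinite.symm fun _ => k
  have hu : ∀ k j, u k j = k := fun k j => rfl
  have hcompat : ∀ k l, k ≤ l → ∀ p : S, o l (monomial (u (l - k)) 1 * p) = o k p := by
    intro k l hkl p
    show of' l (φ l _) = of' k (φ k p)
    refine Eq.trans ?_ (Module.DirectLimit.of_f (hij := hkl))
    refine congrArg (of' l) ?_
    exact ((htrans k l hkl p).trans (congrArg (φ l) (by rw [smul_eq_mul, prod_vars_pow]))).symm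
  let N : (Fin (r + 1) →₀ ℕ) → ℕ := fun e => ∑ j, e j
  let c : ℕ → (Fin (r + 1) →₀ ℕ) → (Fin (r + 1) →₀ ℕ) := fun k e =>
    Finsupp.equivFunOnFinite.symm fun j => k - 1 - e j
  have hc : ∀ k e j, c k e j = k - 1 - e j := fun k e j => rfl
  let ι := RestrictScalars.addEquiv A S L
  let v : (Fin (r + 1) →₀ ℕ) → RestrictScalars A S L := fun e => ι.symm (o (N e + 1) (monomial (c (N e + 1) e) 1))
  have hNe : ∀ e j, e j ≤ N e := fun e j => Finset.single_le_sum (fun _ _ => Nat.zero_le _) (Finset.mem_univ j)
  have hv : ∀ e k, (∀ j, e j < k) → ι (v e) = o k (monomial (c k e) 1) := by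
    intro e k hk
    show o (N e + 1) (monomial (c (N e + 1) e) 1) = _
    rw [← hcompat k (max k (N e + 1)) (le_max_left _ _),
      ← hcompat (N e + 1) (max k (N e + 1)) (le_max_right _ _), monomial_mul, monomial_mul, mul_one]
    congr 3
    ext j
    simp only [Finsupp.add_apply, hu, hc]
    have h1 := hNe e j
    have h2 := hk j
    have h3 := le_max_left k (N e + 1)
    have h4 := le_max_right k (N e + 1)
    omega
  have hsmul : ∀ (a : A) (k : ℕ) (p : S), ι (a • ι.symm (o k p)) = o k (C a * p) := by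
    intro a k p
    rw [RestrictScalars.addEquiv_map_smul, AddEquiv.apply_symm_apply, ← map_smul, smul_eq_mul]
    rfl
  let Γ : ((Fin (r + 1) →₀ ℕ) →₀ A) →ₗ[A] RestrictScalars A S L := Finsupp.linearCombination A v
  have hΓ : ∀ (f : (Fin (r + 1) →₀ ℕ) →₀ A) (k : ℕ), (∀ e ∈ f.support, ∀ j, e j < k) →
      ι (Γ f) = o k (∑ e ∈ f.support, monomial (c k e) (f e)) := by
    intro f k hk
    rw [map_sum]
    show ι (Finsupp.linearCombination A v f) = _
    rw [Finsupp.linearCombination_apply, Finsupp.sum, map_sum]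
    refine Finset.sum_congr rfl fun e he => ?_
    rw [show v e = ι.symm (ι (v e)) from (ι.symm_apply_apply _).symm, hv e k (hk e he), hsmul,
      C_mul_monomial, mul_one]
  refine Module.Free.of_equiv (LinearEquiv.ofBijective Γ ⟨?_, ?_⟩)
  · rw [injective_iff_map_eq_zero]
    intro f hf
    let k := (∑ e ∈ f.support, N e) + 1
    have hk : ∀ e ∈ f.support, ∀ j, e j < k := fun e he j =>
      Nat.lt_succ_of_le ((hNe e j).trans (Finset.single_le_sum (f := N) (fun _ _ => Nat.zero_le _) he))
    have h0 := hΓ f k hk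
    rw [hf, map_zero] at h0
    obtain ⟨l, hkl, hl⟩ := Module.DirectLimit.of.zero_exact h0.symm
    rw [htrans k l hkl, hker, ofList_vars_pow, smul_eq_mul, prod_vars_pow, Finset.mul_sum] at hl
    simp only [monomial_mul, one_mul] at hl
    ext e
    by_contra hfe
    have he : e ∈ f.support := Finsupp.mem_support_iff.2 hfe
    refine hfe ?_
    have hlt : ∀ j, (u (l - k) + c k e : Fin (r + 1) →₀ ℕ) j < l := fun j => by
      simp only [Finsupp.add_apply, hu, hc]
      have := hk e he j
      omega
    have h1 := coeff_eq_zero_of_mem A r hl _ hlt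
    rw [coeff_sum, Finset.sum_eq_single e] at h1
    · rwa [coeff_monomial, if_pos rfl] at h1
    · intro e' he' hne
      rw [coeff_monomial, if_neg]
      intro heq
      refine hne (Finsupp.ext fun j => ?_)
      have h2 := DFunLike.congr_fun heq j
      have h3 := hk e he j
      have h4 := hk e' he' j
      simp only [Finsupp.add_apply, hc] at h2
      change l - k + (k - 1 - e' j) = l - k + (k - 1 - e j) at h2
      omega
    · intro h; exact absurd he h
  · intro z
    obtain ⟨k, y, hy⟩ := Module.DirectLimit.exists_of (ι z)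
    obtain ⟨p, rfl⟩ := hsurj k y
    have hz : z = ι.symm (o k p) := ι.injective (by rw [AddEquiv.apply_symm_apply]; exact hy.symm)
    subst hz
    refine LinearMap.mem_range.1 ?_
    rw [p.as_sum, map_sum, map_sum]
    refine Submodule.sum_mem _ fun s _ => ?_
    by_cases hs : ∀ j, s j < k
    · refine ⟨Finsupp.single (c k s) (coeff s p), ι.injective ?_⟩
      rw [AddEquiv.apply_symm_apply]
      show ι (Finsupp.linearCombination A v _) = _
      rw [Finsupp.linearCombination_single, show v (c k s) = ι.symm (ι (v (c k s))) from (ι.symm_apply_apply _).symm,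
        hv (c k s) k (fun j => by rw [hc]; have := hs j; omega), hsmul, C_mul_monomial, mul_one]
      rw [show c k (c k s) = s from Finsupp.ext fun j => by rw [hc, hc]; have := hs j; omega]
    · obtain ⟨j, hj⟩ := not_forall.1 hs
      have h0 : φ k (monomial s (coeff s p)) = 0 := (hker k _).2 (by
        rw [ofList_vars_pow]; exact monomial_mem A r s j (Nat.le_of_not_lt hj) _)
      rw [show o k (monomial s (coeff s p)) = 0 from by
        show of' k (φ k _) = 0
        rw [h0, map_zero], map_zero]
      exact Submodule.zero_mem _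

end Vars

end KoszVarLib
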